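import Cfsg.Agent.CosetCert.Pack

/-! Generated: the justifications. -/

namespace Cfsg.Agent.CosetCert.J4OctadComm

def justStore : Store := (.leaf 0x280000c000034000090000200604080000140000600000202010300000a00001c000060000140000400000c00002008301000004000202000010000000001e6001e6001e6001e6001e6001e6001e6001e6001e6001e6001e6001e6001e6001e6001e6001e6001e6001e6001e6001e6001e6001e6001e6001e6001e6001e6001e6001e6001e6001e6001e6001e6001e6001e6001e6001e6001e6001e6001e6001e6001e6001e6001e6001e6001e6001e6001e6001e6001e6001e60015d001000004b0001d0000000000000000000000000000000000000000000000000000000)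

end Cfsg.Agent.CosetCert.J4OctadComm
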