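import Cfsg.Agent.CosetCert.J4OctadComm.FactsData
import Cfsg.Agent.CosetCert.J4OctadComm.JustData
import Cfsg.Agent.CosetCert.CoxExtra
import Cfsg.Agent.CosetCert.Pack

/-! Generated: the certificate. -/

set_option maxRecDepth 100000

namespace Cfsg.Agent.CosetCert.J4OctadComm

noncomputable def data : Data where
  K := 12
  n := 0
  M := 10
  Nf := 15
  nR := 18
  iv := fun x => if x < 6 then x + 6 else if x < 12 then x - 6 else x
  F := get48 factStore
  J := getVar justStore
  E := fun _ => 0
  L := fun _ => 0
  P := fun _ => 0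
  W := [
    [2, 2],
    [1, 1],
    [4, 0, 1, 2, 4, 0, 1, 2],
    [1, 2, 1, 2],
    [0, 1, 0, 2, 1, 2],
    [],
    [0, 6],
    [1, 7],
    [2, 8],
    [3, 9],
    [4, 10],
    [5, 11],
    [6, 0],
    [7, 1],
    [8, 2],
    [9, 3],
    [10, 4],
    [11, 5]]
  PW := fun k => Nat.land (Nat.shiftRight 0xcc00000000000000ab000000000000008a0000000000000069000000000000004800000000000000270000000000000186000000000000016500000000000001440000000000000123000000000000010200000000000000e1000000000000000000000000062184410000000000018862000000188251882500000000000000420000000000000063 (Nat.mul 64 k)) 0xffffffffffffffff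
  powers := [
    ([2, 2], 1),
    ([1, 1], 1),
    ([4, 0, 1, 2, 4, 0, 1, 2], 1),
    ([1, 2, 1, 2], 1),
    ([0, 1, 0, 2, 1, 2], 1),
    ([], 1),
    ([0, 6], 1),
    ([1, 7], 1),
    ([2, 8], 1),
    ([3, 9], 1),
    ([4, 10], 1),
    ([5, 11], 1),
    ([6, 0], 1),
    ([7, 1], 1),
    ([8, 2], 1),
    ([9, 3], 1),
    ([10, 4], 1),
    ([11, 5], 1)]

/-- The relators. -/
def relWords : List (List (Fin 6 × Bool)) := [
    [(2, true), (2, true)],
    [(1, true), (1, true)],
    [(4, true), (0, true), (1, true), (2, true), (4, true), (0, true), (1, true), (2, true)],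
    [(1, true), (2, true), (1, true), (2, true)],
    [(0, true), (1, true), (0, true), (2, true), (1, true), (2, true)]]

/-- The subgroup's generators. -/
def subWords : List (List (Fin 6 × Bool)) := []

/-- The numbering of the generators. -/
def enc (b : Fin 6) : Nat := b.val

/-- The generator of a number. -/
def dec (x : Nat) : Fin 6 × Bool := if x < 6 then (Fin.ofNat 6 x, true) else (Fin.ofNat 6 x, false)

end Cfsg.Agent.CosetCert.J4OctadComm
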