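import Cfsg.Agent.CosetCert.Pack

/-! Generated: the facts of the log. -/

namespace Cfsg.Agent.CosetCert.J4OctadComm

def factStore : Store := (.leaf 0x20000a020000800002010000100008010000000002020000000001010000a00009000000900000000000800007040000700006020000600005010000500004000000400003040000300000010000200000020000100000)

end Cfsg.Agent.CosetCert.J4OctadComm
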