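import Cfsg.Agent.CosetCert.J4OctadComm.CheckLog
import Cfsg.Agent.CosetCert.MemberGroup

/-! Generated: the conclusion. -/

set_option maxRecDepth 100000

namespace Cfsg.Agent.CosetCert.J4OctadComm

theorem mem_valid : data.MemValid where
  log := log_ok
  iv_iv := by decide +kernel
  iv_big := fun x hx => by
    change 12 ≤ x at hx
    show (if x < 6 then x + 6 else if x < 12 then x - 6 else x) = x
    split_ifs <;> omega
  pw := by decide +kernel
  letters := by decide +kernel
  K_small := by decide +kernel
  nR_le := by decide +kernel

theorem spells : Data.Spells data (wordRels relWords) (subWords.map FreeGroup.mk) enc dec relWords := by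
  apply spells_words_extra data
  · show ∀ b : Fin 6, _
    decide +kernel
  · decide +kernel
  · intro x hx
    left
    revert x
    decide +kernel
  · decide +kernel
  · decide +kernel

/-- The words shown to be relations. -/
def targets : List (List (Fin 6 × Bool)) := [
    [(0, true), (1, true), (0, true), (1, true)]]

/-- The paths of the targets in the log. -/
def paths : List (Nat × Nat) := [
    (4, 0x580001c00004800010)]

theorem walks_ok : (List.zip targets paths).all (fun p => Nat.beq
    (walk data.F data.iv data.K data.Nf p.2.1 p.2.2 0 (pack (p.1.map (Data.code data.iv enc))))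
    (stop 0 0)) = true := by decide +kernel

theorem targets_len : targets.length = paths.length := rfl

theorem target_mem : ∀ l ∈ targets, PresentedGroup.mk (wordRels relWords) (FreeGroup.mk l) ∈
    Data.sub (wordRels relWords) (subWords.map FreeGroup.mk) := by
  intro l hl
  obtain ⟨i, hi, rfl⟩ := List.mem_iff_getElem.1 hl
  have hm : (targets[i], paths[i]'(targets_len ▸ hi)) ∈ List.zip targets paths := by
    rw [List.mem_iff_getElem]
    exact ⟨i, by simpa [← targets_len] using hi, by simp⟩
  have h := List.all_eq_true.1 walks_ok _ hm
  rw [Nat.beq_eq] at h
  exact Data.mem_sub_of_path mem_valid spells _ _ _ h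

/-- In every group satisfying the relators the targets are trivial. -/
theorem holds {G : Type*} [Group G] (f : Fin 6 → G)
    (hf : ∀ r ∈ relWords, FreeGroup.lift f (FreeGroup.mk r) = 1) :
    ∀ l ∈ targets, FreeGroup.lift f (FreeGroup.mk l) = 1 :=
  fun l hl => group_one_of_mem_sub (target_mem l hl) f hf

end Cfsg.Agent.CosetCert.J4OctadComm
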